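import Cfsg.Agent.Lib.Syl54.Conj
import Cfsg.Agent.Lib.ChevReg250

/-!
# Conjugating commuting elements into the torus: a normalizer growth argument
-/

set_option autoImplicit false
set_option linter.unusedSectionVars false
set_option linter.unusedVariables false
set_option linter.unusedSimpArgs false

namespace Cfsg.Agent.Lib.N65

open Cfsg Cfsg.Lie Cfsg.Agent.Lib.Chev Matrix Cfsg.Agent.Lib.ChevFix Cfsg.Agent.Lib.TwTor32 Cfsg.Agent.Lib.Syl54

variable {F : Type*} [Field F] {T : Tabs} {X : Extra} {R : RootTab} {D : ChevalleyDatum}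

theorem exists_bruhat_uniform [Fintype F] (hF : Full T X R D) {z : GL D.Idx F} (hz : z ∈ D.group F) :
    ∃ u₁ ∈ D.posUnipotent F, ∃ n : ↥(D.monomialSubgroup F), ∃ u₂ ∈ D.posUnipotent F, z = u₁ * n.1 * u₂ ∧
      ∀ t₁ ∈ D.diagonalSubgroup F, ∀ t₂ ∈ D.diagonalSubgroup F,
      z * t₁ * z⁻¹ = t₂ → n.1 * t₁ * n.1⁻¹ = t₂ := by
  classical
  have hnormU : ∀ h ∈ D.diagonalSubgroup F, ∀ u ∈ D.posUnipotent F, h * u * h⁻¹ ∈ D.posUnipotent F := by
    intro h hh u hu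
    exact (Subgroup.mem_normalizer_iff.1 (hF.diagonal_le_normalizer_U hh) u).1 hu
  have hnormN : ∀ n ∈ D.monomialSubgroup F, ∀ h ∈ D.diagonalSubgroup F, n * h * n⁻¹ ∈ D.diagonalSubgroup F := by
    intro n hn h hh
    have := hF.diagonal_normal (F := F)
    have h3 := this.conj_mem ⟨h, hF.c.diagonal_le_monomial hh⟩ (Subgroup.mem_subgroupOf.2 hh) ⟨n, hn⟩
    exact Subgroup.mem_subgroupOf.1 h3
  obtain ⟨n, hn, hgn⟩ := Cfsg.Agent.Lib.BNPair.exists_mem_dc (P := hF.bnPair F)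
    (⟨z, hz⟩ : ↥(D.group F))
  obtain ⟨b, hb, b', hb', e⟩ := Cfsg.Agent.Lib.BNPair.mem_dc.1 hgn
  have hb1 : b.1 ∈ D.borelSubgroup F := Subgroup.mem_subgroupOf.1 hb
  have hb2 : b'.1 ∈ D.borelSubgroup F := Subgroup.mem_subgroupOf.1 hb'
  have hn1 : n.1 ∈ D.monomialSubgroup F := Subgroup.mem_subgroupOf.1 hn
  have he : z = b.1 * n.1 * b'.1 := congrArg Subtype.val e
  obtain ⟨u₁, hu₁, h₁, hh₁, eb⟩ := (hF.mem_borel_iff).1 hb1
  obtain ⟨v, hv, h₂, hh₂, eb'⟩ := (hF.mem_borel_iff).1 hb2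
  set u₂ := h₂⁻¹ * v * h₂ with hu₂
  have hu₂U : u₂ ∈ D.posUnipotent F := by
    have := hnormU _ (inv_mem hh₂) v hv
    rwa [inv_inv] at this
  set n' := h₁ * n.1 * h₂ with hn'
  have hn'N : n' ∈ D.monomialSubgroup F :=
    mul_mem (mul_mem (hF.c.diagonal_le_monomial hh₁) hn1) (hF.c.diagonal_le_monomial hh₂)
  have hz' : z = u₁ * n' * u₂ := by
    rw [he, eb, eb', hn', hu₂]
    group
  refine ⟨u₁, hu₁, ⟨n', hn'N⟩, u₂, hu₂U, hz', ?_⟩
  intro t₁ ht₁ t₂ ht₂ hc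
  set a := u₁⁻¹ * (t₂ * u₁ * t₂⁻¹) with ha
  have haU : a ∈ D.posUnipotent F := mul_mem (inv_mem hu₁) (hnormU _ ht₂ _ hu₁)
  set a' := (t₁ * u₂ * t₁⁻¹) * u₂⁻¹ with ha'
  have ha'U : a' ∈ D.posUnipotent F := mul_mem (hnormU _ ht₁ _ hu₂U) (inv_mem hu₂U)
  set e₀ := n'⁻¹ * t₂ * n' * t₁⁻¹ with he₀
  have he₀H : e₀ ∈ D.diagonalSubgroup F := by
    have h3 := hnormN _ (inv_mem hn'N) _ ht₂
    rw [inv_inv] at h3
    exact mul_mem h3 (inv_mem ht₁)
  have hcz : t₂ * z * t₁⁻¹ = z := by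
    rw [← hc]
    group
  have hrel : n'⁻¹ * a * n' * (e₀ * a') = 1 := by
    have h3 : a * n' * (e₀ * a') = n' := by
      have h4 : a * n' * (e₀ * a') = u₁⁻¹ * (t₂ * (u₁ * n' * u₂) * t₁⁻¹) * u₂⁻¹ := by
        rw [ha, ha', he₀]
        group
      rw [h4, ← hz', hcz, hz']
      group
    calc n'⁻¹ * a * n' * (e₀ * a') = n'⁻¹ * (a * n' * (e₀ * a')) := by group
      _ = 1 := by rw [h3, inv_mul_cancel]
  -- orders
  set q := Fintype.card F with hq
  set m := q ^ R.N with hm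
  have hcard : Nat.card ↥(D.posUnipotent F) = m := hF.card_U_fintype
  have hfinU : Finite ↥(D.posUnipotent F) := by
    apply Nat.finite_of_card_ne_zero
    rw [hcard]
    exact pow_ne_zero _ Fintype.card_ne_zero
  have hapow : a ^ m = 1 := by
    have h3 : (⟨a, haU⟩ : ↥(D.posUnipotent F)) ^ Nat.card ↥(D.posUnipotent F) = 1 := pow_card_eq_one'
    rw [hcard] at h3
    exact congrArg Subtype.val h3
  have hpow2 : (n'⁻¹ * a * n') ^ m = 1 := by
    have h3 : (n'⁻¹ * a * n') ^ m = n'⁻¹ * a ^ m * n' := by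
      have := conj_pow (a := n'⁻¹) (b := a) (i := m)
      rwa [inv_inv] at this
    rw [h3, hapow]
    group
  have hinv : n'⁻¹ * a * n' = (e₀ * a')⁻¹ := eq_inv_of_mul_eq_one_left hrel
  have hpow3 : (e₀ * a') ^ m = 1 := by
    rw [hinv, inv_pow] at hpow2
    exact inv_eq_one.1 hpow2
  have hform : ∀ k : ℕ, ∃ w ∈ D.posUnipotent F, (e₀ * a') ^ k = e₀ ^ k * w := by
    intro k
    induction k with
    | zero => exact ⟨1, one_mem _, by simp⟩
    | succ k ih =>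
      obtain ⟨w, hw, e3⟩ := ih
      refine ⟨e₀⁻¹ * w * e₀ * a', mul_mem ?_ ha'U, ?_⟩
      · have := hnormU _ (inv_mem he₀H) w hw
        rwa [inv_inv] at this
      · rw [pow_succ, e3, pow_succ]
        group
  obtain ⟨w, hw, e3⟩ := hform m
  rw [hpow3] at e3
  have he₀m : e₀ ^ m = 1 := by
    have h3 : e₀ ^ m ∈ D.posUnipotent F ⊓ D.diagonalSubgroup F := by
      refine Subgroup.mem_inf.2 ⟨?_, pow_mem he₀H m⟩
      have : e₀ ^ m = w⁻¹ := eq_inv_of_mul_eq_one_left e3.symm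
      rw [this]
      exact inv_mem hw
    rw [hF.U_inf_H, Subgroup.mem_bot] at h3
    exact h3
  obtain ⟨c₀, hc₀⟩ := (hF.mem_diagonal_iff).1 he₀H
  have he₀1 : e₀ = 1 := by
    have h3 : c₀ ^ m = c₀ := by
      funext i
      apply Units.ext
      rw [Pi.pow_apply, Units.val_pow_eq_pow_val, hm, hq]
      exact FiniteField.pow_card_pow _ _
    rw [hc₀] at he₀m ⊢
    have h4 : tor R D c₀ ^ m = tor R D (c₀ ^ m) := (map_pow (torHom R D) c₀ m).symm
    rw [h4, h3] at he₀m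
    exact he₀m
  show n' * t₁ * n'⁻¹ = t₂
  have h3 : n'⁻¹ * t₂ * n' = t₁ := by
    rw [he₀, mul_inv_eq_one] at he₀1
    exact he₀1
  rw [← h3]
  group


/-- An element of `U` commuting with a family of torus elements separating the roots from `1` is trivial. -/
theorem U_eq_one_of_comm_family (hF : Full T X R D) (C : Set (Fin D.rank → Fˣ))
    (h1 : ∀ r, r < D.nroots → ∃ c ∈ C, chiT D c r ≠ 1)
    {u : GL D.Idx F} (hu : u ∈ D.posUnipotent F) (hc : ∀ c ∈ C, u * tor R D c = tor R D c * u) : u = 1 := by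
  have h2 := hF.two
  rw [hF.U_eq_Uk] at hu
  obtain ⟨τ, rfl⟩ := hF.exists_ordW R.N R.N (by omega) le_rfl _ hu
  have key : ∀ c : Fin D.rank → Fˣ, tor R D c * hF.ordW R.N τ * (tor R D c)⁻¹ =
      hF.ordW R.N (fun r => ((chiT D c r : Fˣ) : F) * τ r) := by
    intro c
    have hgen : ∀ L : List ℕ, (∀ r ∈ L, r < D.nroots) → tor R D c * hF.c.wordG (L.map fun r => (r, τ r)) * (tor R D c)⁻¹ =
        hF.c.wordG (L.map fun r => (r, ((chiT D c r : Fˣ) : F) * τ r)) := by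
      intro L
      induction L with
      | nil =>
        intro _
        simp [Checks.wordG_nil]
      | cons a L ih =>
        intro hL
        rw [List.map_cons, List.map_cons, Checks.wordG_cons, Checks.wordG_cons,
          ← ih (fun r hr => hL r (List.mem_cons_of_mem _ hr)), ← hF.tor_conj_xG c (hL a List.mem_cons_self)]
        group
    exact hgen (List.range' R.N (D.nroots - R.N)) (by
      intro r hr
      rw [List.mem_range'_1] at hr
      omega)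
  have h5 : hF.ordW R.N τ = hF.ordW R.N (0 : ℕ → F) := by
    apply hF.ordW_congr
    intro r hr hr'
    obtain ⟨c, hcC, hcr⟩ := h1 r hr'
    have h3 : hF.ordW R.N (fun r => ((chiT D c r : Fˣ) : F) * τ r) = hF.ordW R.N τ := by
      rw [← key c, ← hc c hcC, mul_inv_cancel_right]
    have h4 := hF.ordW_inj R.N R.N (by omega) le_rfl _ _ h3
    have h6 := h4 r hr hr'
    have h7 : (((chiT D c r : Fˣ) : F) - 1) * τ r = 0 := by
      rw [sub_mul, h6]
      ring
    rcases mul_eq_zero.1 h7 with h8 | h8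
    · exact absurd (Units.ext (sub_eq_zero.1 h8)) hcr
    · exact h8
  rw [h5, hF.ordW_zero]

/-- The centralizer of a family of torus elements separating roots is the torus. -/
theorem mem_diag_of_comm_family [Fintype F] (hF : Full T X R D) (C : Set (Fin D.rank → Fˣ))
    (h1 : ∀ r, r < D.nroots → ∃ c ∈ C, chiT D c r ≠ 1)
    (h2 : ∀ σ : Equiv.Perm (Fin D.nroots), (∀ c ∈ C, ∀ s, chiT D c (σ s) = chiT D c s) → σ = 1)
    {z : GL D.Idx F} (hz : z ∈ D.group F) (hc : ∀ c ∈ C, z * tor R D c = tor R D c * z) :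
    z ∈ D.diagonalSubgroup F := by
  classical
  obtain ⟨u₁, hu₁, n, u₂, hu₂, e, hn⟩ := exists_bruhat_uniform hF hz
  have hcomm : ∀ c ∈ C, n.1 * tor R D c * n.1⁻¹ = tor R D c := by
    intro c hcC
    refine hn _ ((hF.mem_diagonal_iff).2 ⟨c, rfl⟩) _ ((hF.mem_diagonal_iff).2 ⟨c, rfl⟩) ?_
    rw [hc c hcC]
    group
  have hrho : hF.rhoN F n = 1 := by
    apply h2
    intro c hcC s
    exact chi_conj_N hF c c n (hcomm c hcC) s
  have hnH : n.1 ∈ D.diagonalSubgroup F := hF.mem_diagonal_of_rhoN_eq_one hrho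
  have hB : z ∈ D.borelSubgroup F := by
    rw [e]
    exact mul_mem (mul_mem (hF.c.posUnipotent_le_borel hu₁) (hF.c.diagonal_le_borel hnH))
      (hF.c.posUnipotent_le_borel hu₂)
  obtain ⟨u, hu, h, hh, e4⟩ := (hF.mem_borel_iff).1 hB
  obtain ⟨c₁, rfl⟩ := (hF.mem_diagonal_iff).1 hh
  have hut : ∀ c ∈ C, u * tor R D c = tor R D c * u := by
    intro c hcC
    have h3 : tor R D c₁ * tor R D c = tor R D c * tor R D c₁ := by
      rw [tor_mul, tor_mul, mul_comm]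
    have h4 := hc c hcC
    rw [e4] at h4
    have h5 : u * tor R D c * tor R D c₁ = tor R D c * u * tor R D c₁ := by
      calc u * tor R D c * tor R D c₁ = u * (tor R D c * tor R D c₁) := by group
        _ = u * (tor R D c₁ * tor R D c) := by rw [h3]
        _ = u * tor R D c₁ * tor R D c := by group
        _ = tor R D c * (u * tor R D c₁) := h4
        _ = tor R D c * u * tor R D c₁ := by group
    exact mul_right_cancel h5
  rw [e4, U_eq_one_of_comm_family hF C h1 hu hut, one_mul]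
  exact hh

/-- Normalizer growth: a `p`-subgroup containing every `p`-element normalizing it contains a conjugate of every `p`-element. -/
theorem conj_into_of_grow {M : Type*} [Group M] [Finite M] {r : ℕ} [Fact r.Prime] (P : Subgroup M)
    (hP : IsPGroup r P)
    (hgrow : ∀ l : M, (∃ k : ℕ, l ^ r ^ k = 1) → (∀ p ∈ P, l * p * l⁻¹ ∈ P) → l ∈ P)
    {z : M} (hz : ∃ k : ℕ, z ^ r ^ k = 1) : ∃ m : M, m⁻¹ * z * m ∈ P := by
  classical
  obtain ⟨S, hS⟩ := hP.exists_le_sylow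
  have heq : (S : Subgroup M) ≤ P := by
    by_contra hne
    have hH : P.subgroupOf (S : Subgroup M) ≠ ⊤ := by
      intro h0
      apply hne
      intro g hg
      have : (⟨g, hg⟩ : ↥(S : Subgroup M)) ∈ P.subgroupOf (S : Subgroup M) := by
        rw [h0]
        exact Subgroup.mem_top _
      exact Subgroup.mem_subgroupOf.1 this
    haveI : Group.IsNilpotent ↥(S : Subgroup M) := S.isPGroup'.isNilpotent
    have hlt := normalizerCondition_of_isNilpotent (G := ↥(S : Subgroup M)) (P.subgroupOf (S : Subgroup M)) (lt_top_iff_ne_top.2 hH)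
    obtain ⟨l, hl, hl'⟩ := SetLike.exists_of_lt hlt
    apply hl'
    apply Subgroup.mem_subgroupOf.2
    apply hgrow
    · obtain ⟨k, hk⟩ := S.isPGroup' l
      exact ⟨k, congrArg Subtype.val hk⟩
    · intro p hp
      have h1 : (⟨p, hS hp⟩ : ↥(S : Subgroup M)) ∈ P.subgroupOf (S : Subgroup M) := Subgroup.mem_subgroupOf.2 hp
      have h2 := (Subgroup.mem_normalizer_iff.1 hl _).1 h1
      exact Subgroup.mem_subgroupOf.1 h2
  have hzp : IsPGroup r (Subgroup.zpowers z) := by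
    obtain ⟨k, hk⟩ := hz
    rintro ⟨_, n, rfl⟩
    refine ⟨k, Subtype.ext ?_⟩
    show (z ^ n) ^ r ^ k = 1
    rw [← zpow_natCast, ← _root_.zpow_mul, mul_comm, _root_.zpow_mul, zpow_natCast, hk, _root_.one_zpow]
  obtain ⟨S', hS'⟩ := hzp.exists_le_sylow
  obtain ⟨g, hg⟩ := MulAction.exists_smul_eq M S S'
  have hzS' : z ∈ (S' : Subgroup M) := hS' (Subgroup.mem_zpowers z)
  rw [← hg, Sylow.coe_subgroup_smul, Subgroup.mem_smul_pointwise_iff_exists] at hzS'
  obtain ⟨s, hs, hsz⟩ := hzS'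
  refine ⟨g, heq ?_⟩
  have : g⁻¹ * z * g = s := by
    rw [← hsz]
    simp [MulAut.smul_def, MulAut.conj_apply]
    group
  rw [this]
  exact hs

section Core

variable {K : Type*} [Field K] [Fintype K]

theorem tor_pow (c : Fin D.rank → Kˣ) (k : ℕ) : (tor R D c : GL D.Idx K) ^ k = tor R D (c ^ k) :=
  (map_pow (torHom R D) c k).symm

theorem diag_comm (hF : Full T X R D) {g h : GL D.Idx K} (hg : g ∈ D.diagonalSubgroup K) (hh : h ∈ D.diagonalSubgroup K) :
    g * h = h * g := by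
  obtain ⟨c, rfl⟩ := (hF.mem_diagonal_iff).1 hg
  obtain ⟨d, rfl⟩ := (hF.mem_diagonal_iff).1 hh
  rw [tor_mul, tor_mul, mul_comm]

theorem chiT_single (i : Fin D.rank) (ζ : Kˣ) (s : ℕ) : chiT D (Pi.mulSingle i ζ : Fin D.rank → Kˣ) s = ζ ^ D.cartan i s := by
  classical
  unfold chiT
  rw [Finset.prod_eq_single i]
  · rw [Pi.mulSingle_eq_same]
  · intro j _ hj
    rw [Pi.mulSingle_eq_of_ne hj, _root_.one_zpow]
  · intro h
    exact absurd (Finset.mem_univ i) h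

/-- The core step: an `r`-element normalizing the `r`-torsion of `T` and centralizing `tor c₀` lies in `T`. -/
theorem grow_core (hF : Full T X R D) {r : ℕ} [Fact r.Prime]
    (hr1 : r ∣ Fintype.card K - 1) (hr2 : ¬ r ^ 2 ∣ Fintype.card K - 1)
    (hsep0 : ∀ s : Fin D.nroots, ∃ i : Fin D.rank, ¬ (r : ℤ) ∣ D.cartan i s)
    (hsep : ∀ s s' : Fin D.nroots, (∀ i : Fin D.rank, (r : ℤ) ∣ D.cartan i s - D.cartan i s') → s = s')
    (c₀ : Fin D.rank → Kˣ)
    (hstab : ∀ ρ ∈ hF.Wk Set.univ, (∀ s : Fin D.nroots, chiT D c₀ (ρ s) = chiT D c₀ s) → ρ ^ r = 1 → ρ = 1)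
    {L : GL D.Idx K} (hL : L ∈ D.group K) (hLt : L * tor R D c₀ = tor R D c₀ * L) {k : ℕ} (hLk : L ^ r ^ k = 1)
    (hnorm : ∀ p ∈ D.diagonalSubgroup K, p ^ r = 1 → L * p * L⁻¹ ∈ D.diagonalSubgroup K) :
    L ∈ D.diagonalSubgroup K ∧ L ^ r = 1 := by
  classical
  have hrp : r.Prime := Fact.out
  have hcardK : r ∣ Nat.card Kˣ := by
    rw [Nat.card_eq_fintype_card, Fintype.card_units]
    exact hr1
  obtain ⟨ζ, hζ⟩ := exists_prime_orderOf_dvd_card' r hcardK
  let C : Set (Fin D.rank → Kˣ) := {c | c ^ r = 1}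
  have hCmem : ∀ i : Fin D.rank, (Pi.mulSingle i ζ : Fin D.rank → Kˣ) ∈ C := by
    intro i
    show (Pi.mulSingle i ζ : Fin D.rank → Kˣ) ^ r = 1
    funext j
    rw [Pi.pow_apply, Pi.one_apply]
    by_cases h : j = i
    · subst h
      rw [Pi.mulSingle_eq_same, ← hζ, pow_orderOf_eq_one]
    · rw [Pi.mulSingle_eq_of_ne h, one_pow]
  have hzeta : ∀ a b : ℤ, ζ ^ a = ζ ^ b ↔ (r : ℤ) ∣ a - b := by
    intro a b
    rw [zpow_eq_zpow_iff_modEq, hζ, Int.modEq_iff_dvd]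
    constructor
    · intro h
      have := (Int.dvd_neg).2 h
      simpa using this
    · intro h
      have := (Int.dvd_neg).2 h
      simpa using this
  have h1 : ∀ s, s < D.nroots → ∃ c ∈ C, chiT D c s ≠ 1 := by
    intro s hs
    obtain ⟨i, hi⟩ := hsep0 ⟨s, hs⟩
    refine ⟨_, hCmem i, ?_⟩
    rw [chiT_single]
    intro h0
    have h3 := (hzeta (D.cartan i s) 0).1 (by rw [h0, zpow_zero])
    rw [sub_zero] at h3
    exact hi h3
  have h2 : ∀ σ : Equiv.Perm (Fin D.nroots), (∀ c ∈ C, ∀ s, chiT D c (σ s) = chiT D c s) → σ = 1 := by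
    intro σ hσ
    ext s
    have : σ s = s := by
      apply hsep
      intro i
      have h3 := hσ _ (hCmem i) s
      rw [chiT_single, chiT_single] at h3
      exact (hzeta _ _).1 h3
    rw [this]
    rfl
  have hCp : ∀ c ∈ C, tor R D c ∈ D.diagonalSubgroup K ∧ (tor R D c : GL D.Idx K) ^ r = 1 := by
    intro c hc
    refine ⟨(hF.mem_diagonal_iff).2 ⟨c, rfl⟩, ?_⟩
    rw [tor_pow, show c ^ r = 1 from hc]
    exact tor_one R D
  obtain ⟨n, hn⟩ := exists_N_uniform hF hL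
  -- iterating
  have hit : ∀ p ∈ D.diagonalSubgroup K, p ^ r = 1 → ∀ j : ℕ, L ^ j * p * (L ^ j)⁻¹ ∈ D.diagonalSubgroup K ∧
      (L ^ j * p * (L ^ j)⁻¹) ^ r = 1 ∧ n.1 ^ j * p * (n.1 ^ j)⁻¹ = L ^ j * p * (L ^ j)⁻¹ := by
    intro p hp hpr j
    induction j with
    | zero => simpa using ⟨hp, hpr⟩
    | succ j ih =>
      obtain ⟨i1, i2, i3⟩ := ih
      have e1 : L ^ (j + 1) * p * (L ^ (j + 1))⁻¹ = L * (L ^ j * p * (L ^ j)⁻¹) * L⁻¹ := by
        rw [pow_succ']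
        group
      have e2 : n.1 ^ (j + 1) * p * (n.1 ^ (j + 1))⁻¹ = n.1 * (n.1 ^ j * p * (n.1 ^ j)⁻¹) * n.1⁻¹ := by
        rw [pow_succ']
        group
      have h3 := hnorm _ i1 i2
      rw [e1, e2, i3]
      refine ⟨h3, ?_, (hn _ i1 _ h3 rfl)⟩
      rw [conj_pow, i2]
      group
  set w := hF.rhoN K n with hw
  have hwW : w ∈ hF.Wk Set.univ := hF.rhoN_mem_Wk n
  have hwc₀ : ∀ j : ℕ, ∀ s, chiT D c₀ ((w ^ j) s) = chiT D c₀ s := by
    have h3 : n.1 * tor R D c₀ * n.1⁻¹ = tor R D c₀ := by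
      refine hn _ ((hF.mem_diagonal_iff).2 ⟨c₀, rfl⟩) _ ((hF.mem_diagonal_iff).2 ⟨c₀, rfl⟩) ?_
      rw [hLt]
      group
    have h4 := chi_conj_N hF c₀ c₀ n h3
    intro j
    induction j with
    | zero => intro s; rfl
    | succ j ih =>
      intro s
      rw [pow_succ', Equiv.Perm.mul_apply, h4, ih]
  have hwk : w ^ r ^ k = 1 := by
    apply h2
    intro c hc s
    obtain ⟨-, -, h3⟩ := hit _ (hCp c hc).1 (hCp c hc).2 (r ^ k)
    rw [hLk] at h3
    have h4 : ((n ^ r ^ k : ↥(D.monomialSubgroup K)) : GL D.Idx K) * tor R D c * ((n ^ r ^ k : ↥(D.monomialSubgroup K)) : GL D.Idx K)⁻¹ = tor R D c := by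
      rw [Subgroup.coe_pow, h3]
      group
    have h5 := chi_conj_N hF c c (n ^ r ^ k) h4 s
    rwa [map_pow] at h5
  have hw1 : w = 1 := by
    have h3 : orderOf w ∣ r ^ k := orderOf_dvd_of_pow_eq_one hwk
    obtain ⟨j, -, hj⟩ := (Nat.dvd_prime_pow hrp).1 h3
    rcases Nat.eq_zero_or_pos j with h0 | h0
    · rw [h0, pow_zero] at hj
      exact orderOf_eq_one_iff.1 hj
    · exfalso
      obtain ⟨j', rfl⟩ : ∃ j', j = j' + 1 := ⟨j - 1, by omega⟩
      have h4 : (w ^ r ^ j') ^ r = 1 := by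
        rw [← pow_mul, ← pow_succ, ← hj, pow_orderOf_eq_one]
      have h5 := hstab _ (pow_mem hwW _) (hwc₀ _) h4
      have h6 : orderOf w ∣ r ^ j' := orderOf_dvd_of_pow_eq_one h5
      rw [hj] at h6
      have h7 := (Nat.pow_dvd_pow_iff_le_right hrp.one_lt).1 h6
      omega
  have hnH : n.1 ∈ D.diagonalSubgroup K := hF.mem_diagonal_of_rhoN_eq_one hw1
  have hLT : L ∈ D.diagonalSubgroup K := by
    apply mem_diag_of_comm_family hF C h1 h2 hL
    intro c hc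
    obtain ⟨-, -, h3⟩ := hit _ (hCp c hc).1 (hCp c hc).2 1
    simp only [pow_one] at h3
    have h4 : n.1 * tor R D c * n.1⁻¹ = tor R D c := by
      rw [diag_comm hF hnH (hCp c hc).1]
      group
    rw [h4] at h3
    calc L * tor R D c = (L * tor R D c * L⁻¹) * L := by group
      _ = tor R D c * L := by rw [← h3]
  refine ⟨hLT, ?_⟩
  -- the order
  obtain ⟨c, rfl⟩ := (hF.mem_diagonal_iff).1 hLT
  obtain ⟨u, hu⟩ := hr1
  have hun : ¬ r ∣ u := by
    intro h0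
    apply hr2
    rw [hu, pow_two]
    exact Nat.mul_dvd_mul_left r h0
  have hQ : (tor R D c : GL D.Idx K) ^ (Fintype.card K - 1) = 1 := by
    rw [tor_pow]
    have h1 : c ^ (Fintype.card K - 1) = 1 := by
      funext i
      rw [Pi.pow_apply, Pi.one_apply]
      apply Units.ext
      rw [Units.val_pow_eq_pow_val, Units.val_one]
      exact FiniteField.pow_card_sub_one_eq_one _ (Units.ne_zero _)
    rw [h1]
    exact tor_one R D
  set g := (tor R D c : GL D.Idx K) ^ r with hg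
  have h3 : orderOf g ∣ u := by
    apply orderOf_dvd_of_pow_eq_one
    rw [hg, ← pow_mul, ← hu, hQ]
  have h4 : orderOf g ∣ r ^ k := by
    apply orderOf_dvd_of_pow_eq_one
    rw [hg, ← pow_mul, mul_comm, pow_mul, hLk, one_pow]
  have h5 : Nat.Coprime u (r ^ k) := Nat.Coprime.pow_right _ ((Nat.Prime.coprime_iff_not_dvd hrp).2 hun).symm
  have h6 : orderOf g = 1 := Nat.Coprime.eq_one_of_dvd (Nat.Coprime.coprime_dvd_left h3 h5) h4
  exact orderOf_eq_one_iff.1 h6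

/-- An `r`-element of the centralizer of `tor c₀` is conjugate into the torus inside the centralizer. -/
theorem exists_conj_torus_centralizer (hF : Full T X R D) {r : ℕ} [Fact r.Prime]
    (hr1 : r ∣ Fintype.card K - 1) (hr2 : ¬ r ^ 2 ∣ Fintype.card K - 1)
    (hsep0 : ∀ s : Fin D.nroots, ∃ i : Fin D.rank, ¬ (r : ℤ) ∣ D.cartan i s)
    (hsep : ∀ s s' : Fin D.nroots, (∀ i : Fin D.rank, (r : ℤ) ∣ D.cartan i s - D.cartan i s') → s = s')
    (c₀ : Fin D.rank → Kˣ)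
    (hstab : ∀ ρ ∈ hF.Wk Set.univ, (∀ s : Fin D.nroots, chiT D c₀ (ρ s) = chiT D c₀ s) → ρ ^ r = 1 → ρ = 1)
    {z : GL D.Idx K} (hz : z ∈ D.group K) (hzt : z * tor R D c₀ = tor R D c₀ * z) (hzr : z ^ r = 1) :
    ∃ m ∈ D.group K, m * tor R D c₀ = tor R D c₀ * m ∧ m⁻¹ * z * m ∈ D.diagonalSubgroup K := by
  classical
  haveI : Finite (GL D.Idx K) := inferInstance
  let M : Subgroup (GL D.Idx K) := D.group K ⊓ Subgroup.centralizer {tor R D c₀}
  have hMmem : ∀ g : GL D.Idx K, g ∈ M ↔ g ∈ D.group K ∧ g * tor R D c₀ = tor R D c₀ * g := by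
    intro g
    rw [Subgroup.mem_inf, Subgroup.mem_centralizer_singleton_iff]
  let P : Subgroup ↥M :=
    { carrier := {g | g.1 ∈ D.diagonalSubgroup K ∧ g.1 ^ r = 1}
      mul_mem' := by
        rintro a b ⟨ha, ha'⟩ ⟨hb, hb'⟩
        refine ⟨mul_mem ha hb, ?_⟩
        have h3 : Commute a.1 b.1 := diag_comm hF ha hb
        show (a.1 * b.1) ^ r = 1
        rw [h3.mul_pow, ha', hb', one_mul]
      one_mem' := ⟨one_mem _, one_pow _⟩
      inv_mem' := by
        rintro a ⟨ha, ha'⟩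
        refine ⟨inv_mem ha, ?_⟩
        show (a.1)⁻¹ ^ r = 1
        rw [inv_pow, ha', inv_one] }
  have hPmem : ∀ g : ↥M, g ∈ P ↔ g.1 ∈ D.diagonalSubgroup K ∧ g.1 ^ r = 1 := fun g => Iff.rfl
  have hP : IsPGroup r P := by
    rintro ⟨g, hg⟩
    refine ⟨1, Subtype.ext (Subtype.ext ?_)⟩
    rw [pow_one]
    exact ((hPmem g).1 hg).2
  have hTM : ∀ p ∈ D.diagonalSubgroup K, p ∈ M := by
    intro p hp
    refine (hMmem p).2 ⟨hF.c.monomial_le_group (hF.c.diagonal_le_monomial hp), ?_⟩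
    exact diag_comm hF hp ((hF.mem_diagonal_iff).2 ⟨c₀, rfl⟩)
  have hgrow : ∀ l : ↥M, (∃ k : ℕ, l ^ r ^ k = 1) → (∀ p ∈ P, l * p * l⁻¹ ∈ P) → l ∈ P := by
    rintro l ⟨k, hk⟩ hl
    have h1 := (hMmem l.1).1 l.2
    refine grow_core hF hr1 hr2 hsep0 hsep c₀ hstab h1.1 h1.2 (k := k) (congrArg Subtype.val hk) ?_
    intro p hp hpr
    exact ((hPmem _).1 (hl ⟨p, hTM p hp⟩ ⟨hp, hpr⟩)).1
  have hzM : z ∈ M := (hMmem z).2 ⟨hz, hzt⟩
  obtain ⟨m, hm⟩ := conj_into_of_grow P hP hgrow (z := ⟨z, hzM⟩) ⟨1, Subtype.ext (by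
    rw [pow_one]
    exact hzr)⟩
  have h1 := (hMmem m.1).1 m.2
  exact ⟨m.1, h1.1, h1.2, ((hPmem _).1 hm).1⟩

/-- The uniform twist attached to a conjugating element. -/
theorem twist_of_Y {F' : Type*} [Field F'] [Fintype F'] (hF : Full T X R D) (f : F' →+* K) (σ : K ≃+* K) (q : ℕ)
    (hfσ : ∀ b, σ (f b) = f b) (hσ : ∀ x : K, σ x = x ^ q) {Y : GL D.Idx K} (hY : Y ∈ D.group K) :
    ∃ ρ ∈ hF.Wk Set.univ, ∀ (x : GL D.Idx F') (c : Fin D.rank → Kˣ), x ∈ D.group F' →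
      Y⁻¹ * glM D f x * Y = tor R D c → ∀ s : Fin D.nroots, chiT D c (ρ s) = chiT D c s ^ q := by
  classical
  set sg := glM D (σ : K →+* K) with hsg
  have hsgY : sg Y ∈ D.group K := map_group_le D (σ : K →+* K) ⟨Y, hY, rfl⟩
  have hz : Y⁻¹ * sg Y ∈ D.group K := mul_mem (inv_mem hY) hsgY
  obtain ⟨n, hn⟩ := exists_N_uniform hF hz
  refine ⟨hF.rhoN K n, hF.rhoN_mem_Wk n, ?_⟩
  intro x c hx hc
  have hfix : sg (glM D f x) = glM D f x := Fix.fixed_of_mem σ f hfσ ⟨x, hx, rfl⟩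
  have hsgt : sg (tor R D c) = tor R D (c ^ q) := sg_tor σ q hF hσ c
  have hconj : (Y⁻¹ * sg Y) * tor R D (c ^ q) * (Y⁻¹ * sg Y)⁻¹ = tor R D c := by
    rw [← hsgt, ← hc, map_mul, map_mul, map_inv, hfix]
    group
  have h2 := hn _ ((hF.mem_diagonal_iff).2 ⟨_, rfl⟩) _ ((hF.mem_diagonal_iff).2 ⟨_, rfl⟩) hconj
  exact (tw_iff q hF n c).2 h2

/-- Discrete logarithms of an element of the torus of order dividing `r`. -/
theorem exists_log (hF : Full T X R D) {r : ℕ} [Fact r.Prime] {ζ : Kˣ} (hζ : orderOf ζ = r)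
    {c : Fin D.rank → Kˣ} (hc : (tor R D c : GL D.Idx K) ^ r = 1) :
    ∃ a : Fin D.rank → ZMod r, ∀ (v w : Fin D.rank → ℤ),
      (Xc c v = Xc c w ↔ a ⬝ᵥ (fun j => (v j : ZMod r)) = a ⬝ᵥ (fun j => (w j : ZMod r))) ∧
      ∀ q : ℕ, (Xc c v = Xc c w ^ q ↔ a ⬝ᵥ (fun j => (v j : ZMod r)) = (q : ZMod r) * a ⬝ᵥ (fun j => (w j : ZMod r))) := by
  classical
  have hrp : r.Prime := Fact.out
  haveI : NeZero r := ⟨hrp.ne_zero⟩
  have hprim : IsPrimitiveRoot (ζ : K) r := by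
    rw [IsPrimitiveRoot.coe_units_iff, ← hζ]
    exact IsPrimitiveRoot.orderOf ζ
  have hval : ∀ j : Fin D.rank, (cartanMap D c j) ^ r = 1 := by
    intro j
    have h3 : tor R D (c ^ r) = (tor R D (1 : Fin D.rank → Kˣ) : GL D.Idx K) := by
      rw [← tor_pow, hc]
      exact (tor_one R D).symm
    have h4 := chi_eq_of_tor hF h3 (hF.pF j)
    rw [chiT_pow, chiT_one''] at h4
    rw [← Xc_single, ← rcV_pF hF j, Xc_rc hF _ (hF.pF j).2]
    exact h4
  have hlog : ∀ j : Fin D.rank, ∃ i : ℕ, ζ ^ i = cartanMap D c j := by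
    intro j
    have h1 : ((cartanMap D c j : Kˣ) : K) ^ r = 1 := by
      rw [← Units.val_pow_eq_pow_val, hval, Units.val_one]
    obtain ⟨i, -, hi⟩ := hprim.eq_pow_of_pow_eq_one h1
    refine ⟨i, ?_⟩
    apply Units.ext
    rw [Units.val_pow_eq_pow_val, hi]
  choose lv hlv using hlog
  have hXc : ∀ v : Fin D.rank → ℤ, Xc c v = ζ ^ (∑ j, (lv j : ℤ) * v j) := by
    intro v
    unfold Xc
    rw [Finset.prod_congr rfl (fun j _ => by
      rw [← hlv j, ← zpow_natCast, ← _root_.zpow_mul])]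
    have gen : ∀ (S : Finset (Fin D.rank)) (g : Fin D.rank → ℤ), ∏ j ∈ S, ζ ^ (g j) = ζ ^ (∑ j ∈ S, g j) := by
      intro S g
      induction S using Finset.induction_on with
      | empty => simp
      | insert a S ha ih => rw [Finset.prod_insert ha, Finset.sum_insert ha, ih, _root_.zpow_add]
    exact gen _ _
  have hcast : ∀ v : Fin D.rank → ℤ, (((∑ j, (lv j : ℤ) * v j : ℤ)) : ZMod r) =
      (fun j => ((lv j : ℕ) : ZMod r)) ⬝ᵥ (fun j => (v j : ZMod r)) := by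
    intro v
    simp [dotProduct]
  refine ⟨fun j => ((lv j : ℕ) : ZMod r), fun v w => ⟨?_, ?_⟩⟩
  · rw [hXc, hXc, ← hcast, ← hcast, zpow_eq_zpow_iff_modEq, hζ, ZMod.intCast_eq_intCast_iff]
  · intro q
    rw [hXc, hXc, ← hcast, ← hcast, ← zpow_natCast, ← _root_.zpow_mul, zpow_eq_zpow_iff_modEq, hζ,
      ← ZMod.intCast_eq_intCast_iff]
    push_cast
    rw [mul_comm (q : ZMod r)]

end Core

end Cfsg.Agent.Lib.N65
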